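import Groth.Agent.L22.Sp.Functorial
import Groth.Agent.L22.Sp.Basic
import Groth.Agent.L22.DivSub.Basic
import Groth.Agent.L20.Infinitesimal.Flat

/-!
The pullback of the diagonal along the product of an endomorphism with the identity.
-/

set_option autoImplicit false
set_option linter.style.haveILetI false
set_option backward.isDefEq.respectTransparency false
set_option backward.isDefEq.respectTransparency.types false

universe u

open CategoryTheory CategoryTheory.Limits AlgebraicGeometry TopologicalSpace IsLocalRing
open Groth.L20.SeeNormal (sI sI_comap)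

noncomputable section

namespace Groth.L22.GraphPull

theorem main (k : Type u) [Field k] (X : Scheme.{u}) (f : X ⟶ Spec (CommRingCat.of k)) [IsProper f]
    [IsIntegral X] (hdim : topologicalKrullDim ↥X = 1) (ψ : X ⟶ X) (hψ : ψ ≫ f = f) [Flat ψ]
    (m : pullback f f ⟶ pullback f f) (hm₁ : m ≫ pullback.fst f f = pullback.fst f f ≫ ψ)
    (hm₂ : m ≫ pullback.snd f f = pullback.snd f f) (g : X ⟶ pullback f f)
    (hg₁ : g ≫ pullback.fst f f = 𝟙 X) (hg₂ : g ≫ pullback.snd f f = ψ)
    (δ : ↥(pullback f f) → ℤ) (hδ : Cyc.DeltaCompat (pullback.fst f f ≫ f) δ (fun _ => 0)) :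
    Cyc.pullFun m δ δ 0
        (Set.indicator ({pullback.diagonal f (genericPoint ↥X)} : Set ↥(pullback f f)) (fun _ => (1 : ℤ))) =
      Set.indicator ({g (genericPoint ↥X)} : Set ↥(pullback f f)) (fun _ => (1 : ℤ)) := by
  classical
  let η := genericPoint X
  let d := pullback.diagonal f
  have hw : g ≫ m = ψ ≫ d := by
    apply pullback.hom_ext <;> simp [d, hm₁, hm₂, reassoc_of% hg₁, hg₂]
  have sq : IsPullback g ψ m d := by
    refine ⟨⟨hw⟩, ⟨PullbackCone.IsLimit.mk hw (fun s => s.fst ≫ pullback.fst f f) (fun s => ?_) (fun s => ?_)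
      (fun s a ha _ => ?_)⟩⟩
    · have h1 := congrArg (fun t => t ≫ pullback.fst f f) s.condition
      have h2 := congrArg (fun t => t ≫ pullback.snd f f) s.condition
      simp only [d, Category.assoc, hm₁, hm₂, pullback.diagonal_fst, pullback.diagonal_snd, Category.comp_id] at h1 h2
      apply pullback.hom_ext
      · rw [Category.assoc, Category.assoc, hg₁, Category.comp_id]
      · rw [Category.assoc, Category.assoc, hg₂, h1, h2]
    · have h1 := congrArg (fun t => t ≫ pullback.fst f f) s.condition
      simp only [d, Category.assoc, hm₁, pullback.diagonal_fst, Category.comp_id] at h1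
      rw [Category.assoc, h1]
    · rw [← ha, Category.assoc, hg₁, Category.comp_id]
  haveI : IsClosedImmersion d := inferInstanceAs (IsClosedImmersion (pullback.diagonal f))
  haveI : IsClosedImmersion g := MorphismProperty.of_isPullback (P := @IsClosedImmersion) sq.flip inferInstance
  haveI : IsProper (ψ ≫ f) := by rw [hψ]; infer_instance
  haveI : IsProper ψ := IsProper.of_comp ψ f
  have hncl : ¬ IsClosed ({η} : Set X) := by
    intro h
    have : (Set.univ : Set X) = {η} := by rw [← (genericPoint_spec X : _), h.closure_eq]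
    haveI : Subsingleton X := ⟨fun a b => by
      rw [show a = η from this.le (Set.mem_univ a), show b = η from this.le (Set.mem_univ b)]⟩
    haveI : Subsingleton (IrreducibleCloseds X) := ⟨fun A B => IrreducibleCloseds.ext
      ((Subsingleton.eq_univ_of_nonempty A.isIrreducible.nonempty).trans
        (Subsingleton.eq_univ_of_nonempty B.isIrreducible.nonempty).symm)⟩
    have h0 : topologicalKrullDim ↥X ≤ 0 := Order.krullDim_nonpos_of_subsingleton
    rw [hdim] at h0
    exact absurd h0 (by decide)
  haveI : LocallyOfFiniteType f := inferInstance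
  haveI : IsLocallyNoetherian X := LocallyOfFiniteType.isLocallyNoetherian f
  have hψη : ψ η = η := by
    obtain ⟨t, ht, ht'⟩ := Flat.generalizingMap ψ (genericPoint_specializes (ψ η))
    rwa [(ht.antisymm (genericPoint_specializes t)).eq] at ht'
  have huniq : ∀ w, ψ w = η → w = η := by
    intro w hw
    by_contra hne
    refine hncl ?_
    have hcl : IsClosed ({w} : Set X) := by
      rw [← closure_subset_iff_isClosed]
      intro z hz
      by_contra hzw
      let cl : X → IrreducibleCloseds X := fun v => ⟨closure {v}, isIrreducible_singleton.closure, isClosed_closure⟩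
      have hlt : ∀ a b : X, a ⤳ b → b ≠ a → cl b < cl a := fun a b hab hne => by
        refine lt_of_le_of_ne (closure_minimal (Set.singleton_subset_iff.2 hab.mem_closure) isClosed_closure) ?_
        intro e
        have e' : closure {b} = closure {a} := congrArg IrreducibleCloseds.carrier e
        have hba : b ⤳ a := specializes_iff_mem_closure.2 (e'.symm ▸ subset_closure rfl)
        exact hne (hba.antisymm hab).eq
      let S : LTSeries (IrreducibleCloseds X) :=
        RelSeries.cons (RelSeries.cons (RelSeries.singleton _ (cl η)) (cl w)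
          (hlt η w (genericPoint_specializes w) hne)) (cl z) (hlt w z (specializes_iff_mem_closure.2 hz) hzw)
      have h2 : ((S.length : ℕ) : WithBot ℕ∞) ≤ topologicalKrullDim ↥X := Order.LTSeries.length_le_krullDim S
      rw [hdim, show S.length = 2 from rfl] at h2
      exact absurd h2 (by decide)
    rw [← hw, ← Set.image_singleton]
    exact ψ.isClosedMap _ hcl
  have hker : RingHom.ker (g.stalkMap η).hom ≤ Groth.L22.Cyc.fibIdeal m (g η) := by
    rw [Groth.L20.Infinitesimal.ker_stalkMap g η]
    have hgk : g.ker = d.ker.comap m := by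
      rw [← sq.isoPullback_hom_fst, Scheme.Hom.ker_comp_of_isIso, Scheme.IdealSheafData.ker_fst_of_isClosedImmersion]
    rw [hgk, sI_comap]
    refine Ideal.map_mono ?_
    have hgm : m (g η) = d (ψ η) := by rw [← Scheme.Hom.comp_apply, hw, Scheme.Hom.comp_apply]
    refine IsLocalRing.le_maximalIdeal fun h => ?_
    have := (Groth.L22.DivSub.mem_support_iff d.ker (m (g η))).1 (by
      rw [hgm]; exact Scheme.Hom.range_subset_ker_support d ⟨_, rfl⟩)
    exact this h
  have hone : Groth.L22.Cyc.mult m (g η) = 1 := by
    rw [← Groth.L22.Sp.mult_fibre m ψ g d hw.symm η hker, Groth.L22.Cyc.mult]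
    have hF : IsField (X.presheaf.stalk η) := Field.toIsField X.functionField
    have hbot : Groth.L22.Cyc.fibIdeal ψ η = ⊥ :=
      le_bot_iff.1 ((Groth.L22.Cyc.fibIdeal_le ψ η).trans (IsLocalRing.isField_iff_maximalIdeal_eq.1 hF).le)
    rw [hbot, (Submodule.quotEquivOfEqBot _ rfl).length_eq]
    haveI : IsSimpleModule (X.presheaf.stalk η) (X.presheaf.stalk η) := by
      letI := hF.toField
      infer_instance
    exact Module.length_eq_one _ _
  have hδeq : δ (g η) = δ (d η) := by
    have key : ∀ (i : X ⟶ pullback f f) [IsPreimmersion i], i ≫ pullback.fst f f = 𝟙 X →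
        ∃ n : ℕ, δ (i η) = n ∧ Groth.L22.Cyc.rtrdeg f η = n := fun i _ hi => by
      obtain ⟨n, hn, e⟩ := hδ (i η)
      refine ⟨n, by simpa using e, ?_⟩
      have h2 : Groth.L22.Cyc.rtrdeg (i ≫ pullback.fst f f ≫ f) η = (n : Cardinal.{u}) := by
        rw [Groth.L22.Cyc.rtrdeg_comp, Groth.L22.Bundle.rtrdeg_eq_zero i, add_zero]
        exact hn
      rwa [← Category.assoc, hi, Category.id_comp] at h2
    obtain ⟨n, hn, hn'⟩ := key g hg₁
    obtain ⟨n', hn2, hn2'⟩ := key d (pullback.diagonal_fst f)
    rw [hn, hn2, Nat.cast_injective (R := Cardinal.{u}) (hn'.symm.trans hn2')]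
  funext z
  by_cases hz : z = g η
  · subst hz
    have hmz : m (g η) = d η := by rw [← Scheme.Hom.comp_apply, hw, Scheme.Hom.comp_apply, hψη]
    rw [Cyc.pullFun, if_pos (by rw [hmz, hδeq, add_zero]), Set.indicator_of_mem (show m (g η) ∈ ({d η} : Set _) from hmz),
      Set.indicator_of_mem (show g η ∈ ({g (genericPoint ↥X)} : Set _) from rfl)]
    show (1 : ℤ) * ((Groth.L22.Cyc.mult m (g η)).toNat : ℤ) = 1
    rw [hone]; simp
  · rw [Set.indicator_of_notMem (show z ∉ ({g η} : Set _) from hz), Cyc.pullFun]
    split_ifs
    · rw [Set.indicator_of_notMem, zero_mul]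
      intro hmz
      obtain ⟨w, hw1, hw2⟩ := Scheme.exists_preimage_of_isPullback sq z η hmz
      exact hz (by rw [← hw1, huniq w hw2])
    · rfl

end Groth.L22.GraphPull
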